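import Groth.Agent.Sga2lef.H98.LocConn
import Mathlib.AlgebraicGeometry.Stalk
import Mathlib.AlgebraicGeometry.Noetherian
import Mathlib.AlgebraicGeometry.FunctionField

/-!
# Connectedness of the space of proper generizations in a fibre

Let `h : W ⟶ Y` be a morphism of schemes and `w` a point of `W` whose local ring is a normal domain
and a G-ring of dimension at least `dim O_{Y,h w} + 2`. The space of proper generizations of `w` in
its fibre is connected.
-/

set_option autoImplicit false
universe u

open CategoryTheory AlgebraicGeometry TopologicalSpace Topology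

namespace Groth.Agent.Sga2lef.H98.GenConn

open PrimeSpectrum IsLocalRing

theorem isConnected_generizations {W Y : Scheme.{u}} (h : W ⟶ Y) (w : W)
    [IsDomain (W.presheaf.stalk w)] [IsNoetherianRing (W.presheaf.stalk w)]
    [IsNoetherianRing (Y.presheaf.stalk (h w))]
    [IsIntegrallyClosed (W.presheaf.stalk w)] (hG : CAlg.IsGRing (W.presheaf.stalk w)) (c : ℕ)
    (hc : ringKrullDim (Y.presheaf.stalk (h w)) = c)
    (hd : ((c + 2 : ℕ) : WithBot ℕ∞) ≤ ringKrullDim (W.presheaf.stalk w)) :
    _root_.IsConnected {v : W | v ⤳ w ∧ ¬ w ⤳ v ∧ h v = h w} := by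
  classical
  let A := W.presheaf.stalk w
  let B := Y.presheaf.stalk (h w)
  let ρ : B →+* A := (h.stalkMap w).hom
  have hρ : IsLocalHom ρ := inferInstanceAs (IsLocalHom (h.stalkMap w).hom)
  obtain ⟨σ, hσ, hcard⟩ := Ideal.exists_finset_card_eq_height_of_isNoetherianRing (maximalIdeal B)
  have hσc : σ.card = c := by
    have h1 := IsLocalRing.maximalIdeal_height_eq_ringKrullDim (R := B)
    rw [hc, ← hcard] at h1
    exact_mod_cast h1
  have hσm : (σ : Set B) ⊆ maximalIdeal B := fun x hx => hσ.1.2 (Ideal.subset_span hx)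
  let s : Finset A := σ.image ρ
  have hs : (s : Set A) = ρ '' (σ : Set B) := Finset.coe_image
  have hsm : (s : Set A) ⊆ maximalIdeal A := by
    rw [hs]
    rintro _ ⟨x, hx, rfl⟩
    have h1 : x ∈ maximalIdeal B := hσm hx
    rw [SetLike.mem_coe, mem_maximalIdeal, mem_nonunits_iff, isUnit_map_iff ρ]
    exact h1
  have hsc : s.card ≤ c := Finset.card_image_le.trans hσc.le
  have key := LocConn.isConnected_punctured A hG s hsm (le_trans (by exact_mod_cast Nat.add_le_add_right hsc 2) hd)
  have hcomp : ∀ q : Spec A, h (W.fromSpecStalk w q) = Y.fromSpecStalk (h w) (Spec.map (h.stalkMap w) q) := by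
    intro q
    rw [← Scheme.Hom.comp_apply, ← Scheme.SpecMap_stalkMap_fromSpecStalk, Scheme.Hom.comp_apply]
  have hfib : ∀ q : Spec A, h (W.fromSpecStalk w q) = h w ↔ q ∈ zeroLocus (s : Set A) := by
    intro q
    rw [hcomp]
    have h1 : Y.fromSpecStalk (h w) (Spec.map (h.stalkMap w) q) = h w ↔
        PrimeSpectrum.comap ρ q = closedPoint B := by
      constructor
      · intro h2
        apply (Y.fromSpecStalk (h w)).isEmbedding.injective
        exact h2.trans (Scheme.fromSpecStalk_closedPoint).symm
      · intro h2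
        exact (congrArg (Y.fromSpecStalk (h w)) h2).trans Scheme.fromSpecStalk_closedPoint
    rw [h1, hs]
    constructor
    · rintro h2 _ ⟨x, hx, rfl⟩
      have h3 : x ∈ (PrimeSpectrum.comap ρ q).asIdeal := by
        rw [h2]; exact hσm hx
      exact h3
    · intro h2
      apply PrimeSpectrum.ext
      have h3 : (PrimeSpectrum.comap ρ q).asIdeal ≤ maximalIdeal B :=
        le_maximalIdeal (PrimeSpectrum.comap ρ q).2.ne_top
      refine le_antisymm h3 (hσ.2 ⟨(PrimeSpectrum.comap ρ q).2, ?_⟩ h3)
      rw [Ideal.span_le]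
      intro x hx
      exact h2 ⟨x, hx, rfl⟩
  have himg : (W.fromSpecStalk w) '' (zeroLocus (s : Set A) \ {closedPoint A}) =
      {v : W | v ⤳ w ∧ ¬ w ⤳ v ∧ h v = h w} := by
    ext v
    constructor
    · rintro ⟨q, ⟨hq1, hq2⟩, rfl⟩
      have h1 : W.fromSpecStalk w q ⤳ w := by
        have : W.fromSpecStalk w q ∈ Set.range (W.fromSpecStalk w) := ⟨q, rfl⟩
        rw [Scheme.range_fromSpecStalk] at this
        exact this
      refine ⟨h1, fun h2 => hq2 ?_, (hfib q).2 hq1⟩
      have h3 : W.fromSpecStalk w q = w := (h1.antisymm h2).eq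
      apply (W.fromSpecStalk w).isEmbedding.injective
      exact h3.trans (Scheme.fromSpecStalk_closedPoint).symm
    · rintro ⟨h1, h2, h3⟩
      have h4 : v ∈ Set.range (W.fromSpecStalk w) := by
        rw [Scheme.range_fromSpecStalk]; exact h1
      obtain ⟨q, rfl⟩ := h4
      refine ⟨q, ⟨(hfib q).1 h3, fun h5 => h2 ?_⟩, rfl⟩
      have h6 : W.fromSpecStalk w q = w := by
        rw [show q = closedPoint A from h5]
        exact Scheme.fromSpecStalk_closedPoint
      exact specializes_of_eq h6.symm
  rw [← himg]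
  exact key.image _ (W.fromSpecStalk w).continuous.continuousOn

end Groth.Agent.Sga2lef.H98.GenConn
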