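import Groth.Agent.Sga2lef.H98.Stein
import Groth.Agent.CurvesC.AnUnram
import Groth.Agent.CycB.RelDim
import Groth.Agent.S0573
import Groth.Agent.S0566

/-!
# Integral closures in residue fields

For `f : X ⟶ Spec R` locally of finite type, `R` Nagata and `c` a point of `X`, the integral closure
of `R` in `κ(c)` is a finite `R`-module.
-/

set_option autoImplicit false
universe u

open CategoryTheory AlgebraicGeometry TopologicalSpace

namespace Groth.Agent.Sga2lef.H98.IntFin

open Groth.Agent.CycB.RelDim Groth.Agent.CycB.TrdegAlg Groth.Agent.CycA.ProdStalk Stein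

theorem finite_integralClosure (R D κ : Type u) [CommRing R] (hR : CAlg.IsNagata R) [CommRing D]
    [IsDomain D] [Algebra R D] [Algebra.FiniteType R D] [Field κ] [Algebra R κ] [Algebra D κ]
    [IsScalarTower R D κ] [IsFractionRing D κ] : Module.Finite R (integralClosure R κ) := by
  have hD : CAlg.IsNagata D := S0566.result R hR D
  have hfin : Module.Finite D (integralClosure D κ) :=
    CurvesC.AnUnram.finite_integralClosure_of_isNagata D hD (nonZeroDivisors D) le_rfl κ
  let D' := integralClosure D κ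
  have : Algebra.FiniteType D D' := inferInstance
  have : Algebra.FiniteType R D' := Algebra.FiniteType.trans (S := D) inferInstance inferInstance
  have hfin2 : Module.Finite R (integralClosure R D') := S0573.result R hR D'
  let φ : integralClosure R D' →ₗ[R] integralClosure R κ :=
    { toFun := fun x => ⟨x.1.1, x.2.map (IsScalarTower.toAlgHom R D' κ)⟩
      map_add' := fun x y => rfl
      map_smul' := fun r x => rfl }
  refine Module.Finite.of_surjective φ ?_
  rintro ⟨x, hx⟩
  have hx' : x ∈ D' := hx.tower_top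
  have hx'' : IsIntegral R (⟨x, hx'⟩ : D') := by
    rw [← isIntegral_algebraMap_iff (B := κ) (FaithfulSMul.algebraMap_injective D' κ)]
    exact hx
  exact ⟨⟨⟨x, hx'⟩, hx''⟩, rfl⟩

/-- The ring map `R ⟶ κ(c)` through sections over an open. -/
theorem toRes_eq {R : CommRingCat.{u}} {X : Scheme.{u}} (f : X ⟶ Spec R) (U : X.Opens) (c : X)
    (hc : c ∈ U) : toRes f c = (Scheme.ΓSpecIso R).inv ≫ f.appLE ⊤ U le_top ≫
      X.evaluation U c hc := by
  rw [toRes, toStalk_eq]
  simp only [Category.assoc]
  congr 1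
  rw [Scheme.Hom.appLE, Category.assoc, Scheme.evaluation]
  congr 1
  rw [← Category.assoc, TopCat.Presheaf.germ_res]
  rfl

theorem fracGen_toRes_id {R : CommRingCat.{u}} (p : Spec R) :
    FracGen (toRes (𝟙 (Spec R)) p).hom := by
  intro z
  obtain ⟨a, b, hb, hab⟩ := fracGen_evaluation (isAffineOpen_top (Spec R)) p trivial z
  have h1 : Function.Bijective (Scheme.ΓSpecIso R).inv.hom :=
    ConcreteCategory.bijective_of_isIso (Scheme.ΓSpecIso R).inv
  obtain ⟨a, rfl⟩ := h1.2 a
  obtain ⟨b, rfl⟩ := h1.2 b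
  have h2 : ∀ r : R, (toRes (𝟙 (Spec R)) p).hom r =
      ((Spec R).evaluation ⊤ p trivial).hom ((Scheme.ΓSpecIso R).inv.hom r) := by
    intro r
    rw [toRes_eq (𝟙 (Spec R)) ⊤ p trivial]
    have h3 : Scheme.Hom.appLE (𝟙 (Spec R)) ⊤ ⊤ le_top = 𝟙 _ := by
      rw [Scheme.Hom.appLE]
      simp
    rw [h3]
    simp
  exact ⟨a, b, by rw [h2]; exact hb, by rw [h2, h2]; exact hab⟩

theorem finite_integralClosure_residueField {R : CommRingCat.{u}} (hR : CAlg.IsNagata R)
    {X : Scheme.{u}} (f : X ⟶ Spec R) [LocallyOfFiniteType f] (c : X) :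
    letI := (toRes f c).hom.toAlgebra
    Module.Finite R (integralClosure R (X.residueField c)) := by
  let algκ : Algebra R (X.residueField c) := (toRes f c).hom.toAlgebra
  obtain ⟨U, hU, hcU, -⟩ := exists_isAffineOpen_mem_and_subset (x := c) (U := ⊤) trivial
  let φ : R →+* Γ(X, U) := ((Scheme.ΓSpecIso R).inv ≫ f.appLE ⊤ U le_top).hom
  let ψ : Γ(X, U) →+* X.residueField c := (X.evaluation U c hcU).hom
  have hφψ : ∀ r, ψ (φ r) = (toRes f c).hom r := by
    intro r
    rw [toRes_eq f U c hcU]
    rfl
  let _ : Algebra R Γ(X, U) := φ.toAlgebra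
  have hft : Algebra.FiniteType R Γ(X, U) := by
    have h1 := f.finiteType_appLE (isAffineOpen_top _) hU le_top
    exact RingHom.FiniteType.comp h1 (RingHom.FiniteType.of_surjective _
      (ConcreteCategory.bijective_of_isIso (Scheme.ΓSpecIso R).inv).2)
  let D : Subalgebra R (X.residueField c) :=
    { ψ.range with
      algebraMap_mem' := fun r => ⟨φ r, hφψ r⟩ }
  have hψD : ∀ a, ψ a ∈ D := fun a => ⟨a, rfl⟩
  let π : Γ(X, U) →ₐ[R] D :=
    { toFun := fun a => ⟨ψ a, hψD a⟩
      map_one' := Subtype.ext (map_one ψ)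
      map_mul' := fun a b => Subtype.ext (map_mul ψ a b)
      map_zero' := Subtype.ext (map_zero ψ)
      map_add' := fun a b => Subtype.ext (map_add ψ a b)
      commutes' := fun r => Subtype.ext (hφψ r) }
  have hπ : Function.Surjective π := by
    rintro ⟨_, a, rfl⟩
    exact ⟨a, rfl⟩
  have : Algebra.FiniteType R D := Algebra.FiniteType.of_surjective π hπ
  have : IsFractionRing D (X.residueField c) := by
    refine IsFractionRing.of_field D (X.residueField c) (fun z => ?_)
    obtain ⟨a, b, hb, hab⟩ := fracGen_evaluation hU c hcU z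
    refine ⟨⟨ψ a, hψD a⟩, ⟨ψ b, hψD b⟩, ?_⟩
    exact ((div_eq_iff hb).2 hab.symm).symm
  exact finite_integralClosure R D (X.residueField c) hR

end Groth.Agent.Sga2lef.H98.IntFin
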