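import Groth.Agent.S1797
import Groth.Agent.FormalA.ConnCd

/-!
# Connectedness of punctured closed subschemes of excellent normal local rings

If `A` is a normal local domain which is a G-ring, `s` is a set of `d` elements of the maximal ideal
and `dim A ≥ d + 2`, then `V(s)` minus the closed point is connected.
-/

set_option autoImplicit false
universe u

namespace Groth.Agent.Sga2lef.H98.LocConn

open PrimeSpectrum IsLocalRing EGA4

theorem isConnected_punctured (A : Type u) [CommRing A] [IsDomain A] [IsLocalRing A]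
    [IsNoetherianRing A] [IsIntegrallyClosed A] (hA : CAlg.IsGRing A)
    (s : Finset A) (hs : (s : Set A) ⊆ maximalIdeal A)
    (hd : ((s.card + 2 : ℕ) : WithBot ℕ∞) ≤ ringKrullDim A) :
    IsConnected (zeroLocus (s : Set A) \ {closedPoint A}) := by
  classical
  have hdom : IsDomain (Cpl A) := S1797.isDomain_cpl A hA
  have hN : IsNoetherianRing (Cpl A) := Ega4A.CplQuot.isNoetherianRing_cpl A
  have hff : Module.FaithfullyFlat A (Cpl A) := Ega4A.CplQuot.faithfullyFlat_cpl A
  have hlh : IsLocalHom (algebraMap A (Cpl A)) := Ega4A.CplQuot.isLocalHom_cpl A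
  let φ := algebraMap A (Cpl A)
  let t : Finset (Cpl A) := s.image φ
  have ht : (t : Set (Cpl A)) = φ '' (s : Set A) := Finset.coe_image
  have htcard : t.card ≤ s.card := Finset.card_image_le
  have htm : Ideal.span (t : Set (Cpl A)) ≤ maximalIdeal (Cpl A) := by
    rw [Ideal.span_le, ht]
    rintro _ ⟨x, hx, rfl⟩
    have h1 : x ∈ maximalIdeal A := hs hx
    rw [SetLike.mem_coe, mem_maximalIdeal, mem_nonunits_iff, isUnit_map_iff (algebraMap A (Cpl A))]
    exact h1
  have hcd : LocCoh.CdLE (Cpl A) (Ideal.span (t : Set (Cpl A))) s.card := by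
    intro M _ _ i hi
    exact S0326.result (Cpl A) t M i (htcard.trans_lt hi)
  have hne : Ideal.span (t : Set (Cpl A)) ≠ ⊤ := fun h =>
    (maximalIdeal.isMaximal (Cpl A)).ne_top (top_le_iff.1 (h ▸ htm))
  have hJ : zeroLocus (R := Cpl A) (maximalIdeal (Cpl A) : Set (Cpl A)) ⊆
      zeroLocus (Ideal.span (t : Set (Cpl A)) : Set (Cpl A)) := zeroLocus_anti_mono_ideal htm
  have hdim : ringKrullDim (Cpl A ⧸ maximalIdeal (Cpl A)) + ((s.card + 1 : ℕ) : WithBot ℕ∞) <
      ringKrullDim (Cpl A) := by
    rw [Ega4A.CplQuot.ringKrullDim_cpl, ringKrullDim_eq_zero_of_isField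
      ((Ideal.Quotient.maximal_ideal_iff_isField_quotient _).mp (maximalIdeal.isMaximal (Cpl A))),
      zero_add]
    exact lt_of_lt_of_le (by exact_mod_cast Nat.lt_succ_self _) hd
  have key := FormalA.ConnCd.isConnected_of_domain hne hcd (maximalIdeal (Cpl A)) hJ hdim
  have himg : comap φ '' (zeroLocus (Ideal.span (t : Set (Cpl A)) : Set (Cpl A)) \
      zeroLocus (R := Cpl A) (maximalIdeal (Cpl A) : Set (Cpl A))) =
      zeroLocus (s : Set A) \ {closedPoint A} := by
    rw [zeroLocus_span, ht]
    ext q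
    constructor
    · rintro ⟨p, ⟨hp1, hp2⟩, rfl⟩
      refine ⟨fun x hx => ?_, fun h => hp2 ?_⟩
      · exact hp1 ⟨x, hx, rfl⟩
      · rw [mem_zeroLocus, SetLike.coe_subset_coe, AdicCompletion.maximalIdeal_eq_map,
          Ideal.map_le_iff_le_comap]
        have h1 : (comap φ p).asIdeal = maximalIdeal A := congrArg PrimeSpectrum.asIdeal h
        exact h1.ge
    · rintro ⟨hq1, hq2⟩
      obtain ⟨p, rfl⟩ := comap_surjective_of_faithfullyFlat (A := A) (B := Cpl A) q
      refine ⟨p, ⟨?_, fun h => hq2 ?_⟩, rfl⟩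
      · rintro _ ⟨x, hx, rfl⟩
        exact hq1 hx
      · have h1 : p.asIdeal = maximalIdeal (Cpl A) :=
          ((maximalIdeal.isMaximal (Cpl A)).eq_of_le p.2.ne_top h).symm
        refine PrimeSpectrum.ext ?_
        change p.asIdeal.comap φ = maximalIdeal A
        rw [h1]
        exact ((local_hom_TFAE φ).out 0 4).mp hlh
  rw [← himg]
  exact key.image _ (continuous_comap φ).continuousOn

end Groth.Agent.Sga2lef.H98.LocConn
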