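import Groth.Agent.S0388
import Groth.Agent.CycA.ProdStalk
import Mathlib.AlgebraicGeometry.FunctionField
import Mathlib.AlgebraicGeometry.ResidueField
import Mathlib.AlgebraicGeometry.Geometrically.Connected

/-!
# Connected fibres of proper morphisms from integral schemes

Let `h : W ⟶ Spec R` be proper with `W` integral, `R` a domain which is a subring of `K(W)` and
integrally closed in `K(W)`. The fibres of `h` are connected.
-/

set_option autoImplicit false
universe u

open CategoryTheory AlgebraicGeometry TopologicalSpace

namespace Groth.Agent.Sga2lef.H98.Stein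

open Groth.Agent.CycA.ProdStalk

/-- The ring map `R ⟶ κ(w)` for `h : W ⟶ Spec R`. -/
noncomputable def toRes {R : CommRingCat.{u}} {W : Scheme.{u}} (h : W ⟶ Spec R) (w : W) :
    R ⟶ W.residueField w := toStalk h w ≫ W.residue w

theorem SpecMap_toRes {R : CommRingCat.{u}} {W : Scheme.{u}} (h : W ⟶ Spec R) (w : W) :
    Spec.map (toRes h w) = W.fromSpecResidueField w ≫ h := by
  rw [toRes, Spec.map_comp, SpecMap_toStalk, Scheme.fromSpecResidueField, Category.assoc]

theorem toRes_residueFieldMap {R : CommRingCat.{u}} {W W' : Scheme.{u}} (h : W ⟶ Spec R)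
    (j : W' ⟶ W) (w : W') : toRes h (j w) ≫ j.residueFieldMap w = toRes (j ≫ h) w := by
  apply Spec.map_injective
  rw [Spec.map_comp, SpecMap_toRes, SpecMap_toRes, ← Category.assoc,
    Scheme.Hom.SpecMap_residueFieldMap_fromSpecResidueField, Category.assoc]

/-- Sections over the preimage of `⊤`. -/
theorem toStalk_eq {R : CommRingCat.{u}} {W : Scheme.{u}} (h : W ⟶ Spec R) (w : W) :
    toStalk h w = (Scheme.ΓSpecIso R).inv ≫ h.appTop ≫ W.presheaf.germ ⊤ w trivial := by
  have h1 : ∀ {A B : CommRingCat.{u}} (φ : A ⟶ B),
      φ = (Scheme.ΓSpecIso A).inv ≫ (Spec.map φ).appTop ≫ (Scheme.ΓSpecIso B).hom := by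
    intro A B φ
    rw [Iso.eq_inv_comp, Scheme.ΓSpecIso_naturality]
  rw [h1 (toStalk h w), SpecMap_toStalk, Scheme.Hom.comp_appTop, Scheme.fromSpecStalk_appTop]
  simp

theorem isIso_of_isIso_appTop {X Y : Scheme.{u}} [IsAffine X] [IsAffine Y] (f : X ⟶ Y)
    [IsIso f.appTop] : IsIso f :=
  ((MorphismProperty.isomorphisms Scheme.{u}).arrow_mk_iso_iff (arrowIsoSpecΓOfIsAffine f)).mpr
    (inferInstanceAs (IsIso (Spec.map f.appTop)))

theorem evaluation_injective (W : Scheme.{u}) [IsIntegral W] :
    Function.Injective
      (W.presheaf.germ ⊤ (genericPoint W) trivial ≫ W.residue (genericPoint W)).hom := by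
  have hmem : genericPoint W ∈ (⊤ : W.Opens) := trivial
  have h1 : Function.Injective (W.presheaf.germ ⊤ (genericPoint W) hmem).hom :=
    germ_injective_of_isIntegral W _ hmem
  let _ : Field (W.presheaf.stalk (genericPoint W)) := inferInstanceAs (Field W.functionField)
  have h2 : Function.Injective (W.residue (genericPoint W)).hom := RingHom.injective _
  rw [CommRingCat.hom_comp]
  exact h2.comp h1

/-- If `R` is a subring of `K(W)` which is integrally closed in `K(W)`, the normalization of
`Spec R` in `W` is `Spec R`. -/
theorem isIso_fromNormalization {R : CommRingCat.{u}} {W : Scheme.{u}} (h : W ⟶ Spec R)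
    [QuasiCompact h] [QuasiSeparated h] [IsIntegral W]
    (hinj : Function.Injective (toRes h (genericPoint W)).hom)
    (H : ∀ x : W.residueField (genericPoint W),
      (toRes h (genericPoint W)).hom.IsIntegralElem x → x ∈ (toRes h (genericPoint W)).hom.range) :
    IsIso h.fromNormalization := by
  have haff : IsAffine h.normalization := isAffine_of_isAffineHom h.fromNormalization
  have hU : IsAffineOpen (⊤ : (Spec R).Opens) := isAffineOpen_top _
  let ev := (W.presheaf.germ ⊤ (genericPoint W) trivial ≫ W.residue (genericPoint W)).hom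
  have hev : Function.Injective ev := evaluation_injective W
  let ι : R →+* Γ(Spec R, ⊤) := (Scheme.ΓSpecIso R).inv.hom
  have hι : Function.Bijective ι := ConcreteCategory.bijective_of_isIso (Scheme.ΓSpecIso R).inv
  have hres : ∀ r : R, (toRes h (genericPoint W)).hom r = ev (h.appTop.hom (ι r)) := by
    intro r
    rw [toRes, toStalk_eq]
    rfl
  have happ : IsIso (h.fromNormalization.app ⊤) := by
    rw [Scheme.Hom.fromNormalization_app _ hU]
    let algK : Algebra Γ(Spec R, ⊤) Γ(W, h ⁻¹ᵁ ⊤) := (h.app ⊤).hom.toAlgebra
    have h2 : IsIso (CommRingCat.ofHom (algebraMap Γ(Spec R, ⊤)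
        (integralClosure Γ(Spec R, ⊤) Γ(W, h ⁻¹ᵁ ⊤)))) := by
      refine (ConcreteCategory.isIso_iff_bijective _).mpr ⟨?_, ?_⟩
      · intro a b hab
        obtain ⟨a, rfl⟩ := hι.2 a
        obtain ⟨b, rfl⟩ := hι.2 b
        have h3 : h.appTop.hom (ι a) = h.appTop.hom (ι b) := congrArg Subtype.val hab
        congr 1
        apply hinj
        rw [hres, hres, h3]
      · rintro ⟨x, hx⟩
        obtain ⟨P, hP1, hP2⟩ := hx
        have h4 : (toRes h (genericPoint W)).hom.IsIntegralElem (ev x) := by
          let e : Γ(Spec R, ⊤) ≃+* R := (RingEquiv.ofBijective ι hι).symm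
          have he : ∀ y, ι (e y) = y := fun y => (RingEquiv.ofBijective ι hι).apply_symm_apply y
          refine ⟨P.map (e : Γ(Spec R, ⊤) →+* R), hP1.map _, ?_⟩
          rw [Polynomial.eval₂_map]
          have h5 : (toRes h (genericPoint W)).hom.comp (e : Γ(Spec R, ⊤) →+* R) =
              ev.comp h.appTop.hom := by
            ext y
            change (toRes h (genericPoint W)).hom (e y) = ev (h.appTop.hom y)
            rw [hres, he]
          rw [h5, ← Polynomial.hom_eval₂]
          have h6 : Polynomial.eval₂ h.appTop.hom x P = 0 := hP2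
          rw [h6, map_zero]
        obtain ⟨r, hr⟩ := H (ev x) h4
        refine ⟨ι r, Subtype.ext ?_⟩
        change h.appTop.hom (ι r) = x
        apply hev
        rw [← hres]
        exact hr
    exact IsIso.comp_isIso' h2 inferInstance
  have : IsIso h.fromNormalization.appTop := happ
  exact isIso_of_isIso_appTop _

/-- The fibres of `h` are connected. -/
theorem isConnected_fibre {R : CommRingCat.{u}} {W : Scheme.{u}} (h : W ⟶ Spec R)
    [IsProper h] [IsIntegral W]
    (hinj : Function.Injective (toRes h (genericPoint W)).hom)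
    (H : ∀ x : W.residueField (genericPoint W),
      (toRes h (genericPoint W)).hom.IsIntegralElem x → x ∈ (toRes h (genericPoint W)).hom.range)
    (s : Spec R) : _root_.IsConnected (h ⁻¹' {s}) := by
  have hiso := isIso_fromNormalization h hinj H
  have hgc : GeometricallyConnected h.toNormalization := (S0388.result h).1
  let s' : h.normalization := (inv h.fromNormalization) s
  have h1 : h.fromNormalization s' = s := by
    rw [← Scheme.Hom.comp_apply, IsIso.inv_hom_id]
    rfl
  have h2 : h ⁻¹' {s} = h.toNormalization ⁻¹' {s'} := by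
    ext w
    have h3 : h w = h.fromNormalization (h.toNormalization w) := by
      rw [← Scheme.Hom.comp_apply, Scheme.Hom.toNormalization_fromNormalization]
    simp only [Set.mem_preimage, Set.mem_singleton_iff]
    rw [h3]
    constructor
    · intro h4
      apply h.fromNormalization.isEmbedding.injective
      rw [h4, h1]
    · intro h4
      rw [h4, h1]
  rw [h2]
  exact h.toNormalization.isConnected_preimage_singleton s'

end Groth.Agent.Sga2lef.H98.Stein
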